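import Groth.Agent.S14451
import Groth.Agent.EtCechInjLib.Delta
import Groth.Agent.EtShLib.FlasquePush
import Groth.Prelude.Def_EtBase

/-!
# A bound on cohomology through higher direct images
-/

set_option autoImplicit false
set_option linter.style.haveILetI false
set_option linter.unusedSectionVars false
set_option backward.isDefEq.respectTransparency false
set_option backward.isDefEq.respectTransparency.types false
set_option synthInstance.maxHeartbeats 400000
set_option maxHeartbeats 1000000

universe u

open CategoryTheory CategoryTheory.Limits AlgebraicGeometry Opposite CategoryTheory.Abelian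
open Groth.Agent Groth.Agent.EtShLib

noncomputable section

namespace CdLerayBoundLib

/-- If the higher direct images vanish above `a` and their cohomology vanishes above `e`, cohomology vanishes
above `a + e`. -/
theorem subsingleton_H_of_Rpush {X S : Scheme.{u}} (f : X ⟶ S) [PreservesFiniteLimits (EtCoh.pull f)] (e : ℕ) :
    ∀ (a : ℕ) (C : EtCoh.Ab X), (∀ q, a < q → IsZero ((EtCoh.Rpush f q).obj C)) →
      (∀ q ≤ a, ∀ m, e < m → Subsingleton (EtCoh.H S ((EtCoh.Rpush f q).obj C) m)) →
      ∀ n, a + e < n → Subsingleton (EtCoh.H X C n) := by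
  haveI : (EtCoh.push f).Additive := { }
  haveI : PreservesLimitsOfSize.{0, 0} (EtCoh.push f) := (EtCoh.pullPushAdj f).rightAdjoint_preservesLimits
  haveI : PreservesFiniteLimits (EtCoh.push f) := PreservesLimitsOfSize.preservesFiniteLimits _
  intro a
  induction a with
  | zero =>
    intro C hR hH n hn
    haveI : Subsingleton (EtCoh.H S ((EtCoh.push f).obj C) n) := by
      have h0 := hH 0 le_rfl n (by omega)
      refine subsingleton_of_forall_eq 0 fun (y : Ext.{u + 1} _ _ n) => ?_
      let i : (EtCoh.Rpush f 0).obj C ≅ (EtCoh.push f).obj C := (EtCoh.push f).rightDerivedZeroIsoSelf.app C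
      rw [← Ext.comp_mk₀_id y, ← i.inv_hom_id, ← Ext.mk₀_comp_mk₀, ← Ext.comp_assoc_of_second_deg_zero,
        h0.elim (y.comp (Ext.mk₀ i.inv) (add_zero n)) 0, Ext.zero_comp]
    exact (Groth.Agent.S14451.result f C (fun q hq => hR q hq) n).2.subsingleton
  | succ a ih =>
    intro C hR hH n hn
    obtain ⟨n, rfl⟩ : ∃ m, n = m + 1 := ⟨n - 1, by omega⟩
    let ip := (EnoughInjectives.presentation C).some
    haveI : Injective ip.J := ip.injective
    let T₀ : ShortComplex (EtCoh.Ab X) := ShortComplex.mk ip.f (cokernel.π ip.f) (cokernel.condition _)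
    have hT : T₀.ShortExact := { exact := ShortComplex.exact_of_g_is_cokernel _ (cokernelIsCokernel _) }
    haveI : Injective T₀.X₂ := ip.injective
    let D := EtCechInjLib.derDelta (EtCoh.push f)
    have hI : ∀ q : ℕ, IsZero ((D.F (q + 1)).obj T₀.X₂) := fun q =>
      Functor.isZero_rightDerived_obj_injective_succ _ q _
    have hδ : ∀ q : ℕ, IsIso (D.δ hT (q + 1)) := fun q => by
      haveI : Mono (D.δ hT (q + 1)) := (D.exact₃ hT (q + 1)).mono_g ((hI q).eq_of_src _ _)
      haveI : Epi (D.δ hT (q + 1)) := (D.exact₁ hT (q + 1)).epi_f ((hI (q + 1)).eq_of_tgt _ _)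
      exact isIso_of_mono_of_epi _
    -- the cokernel
    have hC : ∀ q, a < q → IsZero ((EtCoh.Rpush f q).obj T₀.X₃) := fun q hq => by
      obtain ⟨q, rfl⟩ : ∃ m, q = m + 1 := ⟨q - 1, by omega⟩
      haveI := hδ q
      exact IsZero.of_iso (hR (q + 1 + 1) (by omega)) (asIso (D.δ hT (q + 1)))
    have hHC : ∀ q ≤ a, ∀ m, e < m → Subsingleton (EtCoh.H S ((EtCoh.Rpush f q).obj T₀.X₃) m) := by
      intro q hq m hm
      rcases q with _ | q
      · haveI : Injective ((D.F 0).obj T₀.X₂) :=
          haveI := EtShLib.injective_push f T₀.X₂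
          Injective.of_iso ((EtCoh.push f).rightDerivedZeroIsoSelf.app T₀.X₂).symm inferInstance
        haveI := D.preservesZero 0
        let d := D.δ hT 0
        let S₂ : ShortComplex (EtCoh.Ab S) := ShortComplex.mk (kernel.ι d) d (kernel.condition d)
        have hS₂ : S₂.ShortExact :=
          { exact := ShortComplex.exact_of_f_is_kernel _ (kernelIsKernel _)
            mono_f := inferInstanceAs (Mono (kernel.ι d))
            epi_g := (D.exact₁ hT 0).epi_f ((hI 0).eq_of_tgt _ _) }
        let S₁ : ShortComplex (EtCoh.Ab S) := ShortComplex.mk ((D.F 0).map T₀.f)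
          (kernel.lift d ((D.F 0).map T₀.g) (D.map_comp_δ hT 0)) ((cancel_mono (kernel.ι d)).1 (by
            rw [Category.assoc, kernel.lift_ι, zero_comp, ← Functor.map_comp, T₀.zero, Functor.map_zero]))
        have hS₁ : S₁.ShortExact :=
          { exact := by
              haveI : Mono ((T₀.map (D.F 0)).f) := D.mono₀ hT
              haveI : Mono S₁.f := D.mono₀ hT
              have hk := (D.exact₂ hT 0).fIsKernel
              refine ShortComplex.exact_of_f_is_kernel _ ?_
              exact KernelFork.IsLimit.ofι' _ _ fun t ht =>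
                ⟨hk.lift (KernelFork.ofι t (by
                    show t ≫ (D.F 0).map T₀.g = 0
                    rw [← kernel.lift_ι d ((D.F 0).map T₀.g) (D.map_comp_δ hT 0), ← Category.assoc, ht, zero_comp])),
                  hk.fac _ WalkingParallelPair.zero⟩
            mono_f := D.mono₀ hT
            epi_g := (D.exact₃ hT 0).epi_kernelLift }
        refine subsingleton_of_forall_eq 0 fun (y : Ext.{u + 1} _ S₂.X₂ m) => ?_
        haveI := hH 1 (by omega) m hm
        obtain ⟨z, rfl⟩ := Ext.covariant_sequence_exact₂ _ hS₂ y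
          (Subsingleton.elim (α := EtCoh.H S ((EtCoh.Rpush f 1).obj C) m) _ _)
        haveI := hH 0 (by omega) (m + 1) (by omega)
        obtain ⟨w, rfl⟩ := Ext.covariant_sequence_exact₃ _ hS₁ (z : Ext.{u + 1} _ S₁.X₃ m) (n₁ := m + 1) rfl
          (Subsingleton.elim (α := EtCoh.H S ((EtCoh.Rpush f 0).obj C) (m + 1)) _ _)
        obtain ⟨m, rfl⟩ : ∃ k, m = k + 1 := ⟨m - 1, by omega⟩
        rw [Ext.eq_zero_of_injective w, Ext.zero_comp, Ext.zero_comp]
      · haveI := hδ q
        have h1 := hH (q + 1 + 1) (by omega) m hm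
        refine subsingleton_of_forall_eq 0 fun (y : Ext.{u + 1} _ ((EtCoh.Rpush f (q + 1)).obj T₀.X₃) m) => ?_
        let i : (EtCoh.Rpush f (q + 1)).obj T₀.X₃ ≅ (EtCoh.Rpush f (q + 1 + 1)).obj C := asIso (D.δ hT (q + 1))
        rw [← Ext.comp_mk₀_id y, ← i.hom_inv_id, ← Ext.mk₀_comp_mk₀,
          ← Ext.comp_assoc_of_second_deg_zero, h1.elim (y.comp (Ext.mk₀ i.hom) (add_zero m)) 0, Ext.zero_comp]
    refine subsingleton_of_forall_eq 0 fun (y : Ext.{u + 1} _ T₀.X₁ (n + 1)) => ?_
    obtain ⟨z, rfl⟩ := Ext.covariant_sequence_exact₁ _ hT y (Ext.eq_zero_of_injective _) (n₀ := n) rfl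
    haveI := ih T₀.X₃ hC hHC n (by omega)
    rw [show z = 0 from Subsingleton.elim (α := EtCoh.H X T₀.X₃ n) z 0, Ext.zero_comp]

end CdLerayBoundLib
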